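import Cfsg.Agent.H58.Rec.Tools

/-!
# Recognition by spectrum: a prime not dividing the index of the socle (helper823)

`Red.not_dvd_index'` : `r` does not divide `|X : S|` if `r * q` is not an element order and the order of a Sylow `q`-subgroup of
`S` is not `1` modulo `r`.
-/

set_option autoImplicit false

namespace Cfsg.Agent.H823.Rec

open Subgroup
open Cfsg Cfsg.Agent.H58.Rec Cfsg.Agent.H455.Isolated

universe u v

theorem not_dvd_index' {G : Type u} [Group G] [Finite G] {X : Type v} [Group X] {π : G →* X} {S : Subgroup X} {s : ℕ}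
    (h : Red π S s) {r q k : ℕ} (hr : r.Prime) (hq : q.Prime) (hqr : q ≠ r) (hk : q ^ k ∣ Nat.card S)
    (hk' : ¬ q ^ (k + 1) ∣ Nat.card S) (hne : q ^ k % r ≠ 1) (hno : ¬ HasOrd G (r * q)) : ¬ r ∣ S.index := by
  classical
  intro hsi
  have hfs : Fact r.Prime := ⟨hr⟩
  have hfq : Fact q.Prime := ⟨hq⟩
  have hfX : Finite X := Finite.of_surjective π h.surj
  have hSn := h.normal
  obtain ⟨Q⟩ : Nonempty (Sylow q S) := inferInstance
  have hQc : Nat.card Q = q ^ k := by
    obtain ⟨m, hm⟩ := hk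
    have hpos : 0 < Nat.card S := Nat.card_pos
    have hmq : ¬ q ∣ m := by
      rintro ⟨j, rfl⟩
      exact hk' ⟨j, by rw [hm, pow_succ]; ring⟩
    rw [Q.card_eq_multiplicity, hm, Nat.factorization_mul (pow_ne_zero _ hq.ne_zero) (by rintro rfl; simp at hm; omega),
      Nat.Prime.factorization_pow hq]
    simp [Nat.factorization_eq_zero_of_not_dvd hmq]
  set Q' : Subgroup X := (Q : Subgroup S).map S.subtype with hQ'
  have hQ'c : Nat.card Q' = q ^ k := by
    rw [hQ', Subgroup.card_map_of_injective S.subtype_injective]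
    exact hQc
  have hsup : normalizer (Q' : Set X) ⊔ S = ⊤ := Sylow.normalizer_sup_eq_top Q
  set N := normalizer (Q' : Set X) with hN
  have hsN : r ∣ Nat.card N := by
    have h2 : S.index = S.relIndex N := by
      rw [← Subgroup.relIndex_sup_right, hsup, Subgroup.relIndex_top_right]
    rw [h2] at hsi
    exact hsi.trans (Subgroup.relIndex_dvd_card S N)
  obtain ⟨x, hx⟩ := exists_prime_orderOf_dvd_card' (G := N) r hsN
  -- the action of `x` on `Q'`
  let φ : zpowers x →* MulAut Q' := (normalizerMonoidHom Q').comp (zpowers x).subtype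
  let : MulAction (zpowers x) Q' := MulAction.compHom Q' φ
  have hxp : IsPGroup r (zpowers x) := IsPGroup.of_card (n := 1) (by rw [Nat.card_zpowers, hx, pow_one])
  have h3 := hxp.card_modEq_card_fixedPoints Q'
  have h4 : Nat.card (MulAction.fixedPoints (zpowers x) Q') = 1 := by
    rw [Nat.card_eq_one_iff_unique]
    refine ⟨⟨?_⟩, ⟨⟨1, fun g => by
      show φ g 1 = 1
      exact map_one _⟩⟩⟩
    have key : ∀ a : MulAction.fixedPoints (zpowers x) Q', (a : Q') = 1 := by
      rintro ⟨a, ha⟩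
      by_contra ha1
      have h5 : ((x : N) : X) * a * ((x : N) : X)⁻¹ = a := by
        have := congrArg Subtype.val (ha ⟨x, mem_zpowers x⟩)
        exact this
      have h6 : Commute ((x : N) : X) (a : X) := mul_inv_eq_iff_eq_mul.1 h5
      have h7 : orderOf (x : X) = r := by rw [Subgroup.orderOf_coe, hx]
      have hpos := orderOf_pos (a : X)
      have h8 : (a : X) ≠ 1 := fun h9 => ha1 (Subtype.ext h9)
      have hQp : IsPGroup q Q' := Q.2.map _
      obtain ⟨j, hj⟩ := (IsPGroup.iff_orderOf.mp hQp) a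
      rw [← Subgroup.orderOf_coe] at hj
      have hj0 : j ≠ 0 := by
        rintro rfl
        rw [pow_zero, orderOf_eq_one_iff] at hj
        exact h8 hj
      have h9 : HasOrd X (r * q ^ j) := hasOrd_mul h6 h7 hj
        (Nat.Coprime.pow_right _ ((Nat.coprime_primes hr hq).2 hqr.symm))
      have h10 : HasOrd X (r * q) := h9.of_dvd (Nat.mul_dvd_mul_left r (dvd_pow_self q hj0))
      exact hno (h.hasOrd h10)
    intro a b
    exact Subtype.ext ((key a).trans (key b).symm)
  rw [h4, hQ'c] at h3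
  apply hne
  have h5 : q ^ k % r = 1 % r := h3
  rwa [Nat.mod_eq_of_lt hr.one_lt] at h5

/-- a noncyclic abelian subgroup of order `q ^ 2` when `q ^ 2 ∣ |S|` and there is no element of order `q ^ 2` -/
theorem exists_rank_two {S : Type*} [Group S] [Finite S] {q : ℕ} (hq : q.Prime) (hd : q ^ 2 ∣ Nat.card S)
    (hno : ¬ HasOrd S (q ^ 2)) :
    ∃ A : Subgroup S, IsPGroup q A ∧ (∀ a ∈ A, ∀ b ∈ A, a * b = b * a) ∧ ¬ IsCyclic A := by
  have hfq : Fact q.Prime := ⟨hq⟩
  obtain ⟨A, hA⟩ := Sylow.exists_subgroup_card_pow_prime q hd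
  refine ⟨A, IsPGroup.of_card hA, ?_, ?_⟩
  · have h1 := IsPGroup.isMulCommutative_of_card_eq_prime_sq hA
    intro a ha b hb
    exact congrArg Subtype.val (h1.is_comm.comm (⟨a, ha⟩ : A) ⟨b, hb⟩)
  · intro hc
    obtain ⟨g, hg⟩ := hc.exists_generator
    have h1 := orderOf_eq_card_of_forall_mem_zpowers hg
    rw [hA] at h1
    exact hno (HasOrd.of_subgroup ⟨g, h1⟩)

end Cfsg.Agent.H823.Rec
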