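import Cfsg.Agent.H823.Rec.Co1Data
import Cfsg.Agent.H823.Rec.Frob
import Cfsg.Agent.H58.Rec.Tools
import Cfsg.Agent.H547.SelfCent.Conway
import Cfsg.Agent.H393.Iso.Co1
import Cfsg.Agent.H546.MElevenB
import Cfsg.Agent.H149.Sp.Leech

/-!
# Element orders and Frobenius subgroups of `Co1` (S3484, helper823)

* `sc` : elements of order 23 are self-centralizing; `no_55`, `no_77`, `no_143`, `no_44`, `no_66`, `has_33`;
* `good` : `Good Co1 23`;
* `frob_2_23`, `frob_3_22` : Frobenius groups `2^11:23`, `3^5:22`.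
-/

set_option autoImplicit false

namespace Cfsg.Agent.H823.Rec.Co1Facts

open Subgroup Cfsg Cfsg.Agent.H58.Rec Cfsg.Agent.H455.Isolated
open Cfsg.Agent.H393.Iso (NA)
open Cfsg.Agent.H537.Cop (SC)
open Cfsg.Agent.SporadicA.Co0Mono
open Cfsg.Agent.SporadicA.Co1Simple (allOne x23 shift shift_pow_23)
open Cfsg.Agent.CoOneType.ClosingFacts (mk mk_mul mk_inv exists_mk mk_eq_one)
open Cfsg.Agent.CTwoTab

theorem card : Nat.card Spor.Co1 = 4157776806543360000 := Cfsg.Agent.S0399.result.2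

theorem finite : Finite Spor.Co1 := Nat.finite_of_card_ne_zero (by rw [card]; norm_num)

theorem mk_pow (a : Co0) (n : ℕ) : (mk a) ^ n = mk (a ^ n) := rfl

/-- an element of order `m n`: commuting elements -/
theorem HasOrd.split {G : Type*} [Group G] {m n : ℕ} (hm : 0 < m) (hn : 0 < n) (h : HasOrd G (m * n)) :
    ∃ x y : G, orderOf x = m ∧ orderOf y = n ∧ x * y = y * x := by
  obtain ⟨g, hg⟩ := h
  refine ⟨g ^ n, g ^ m, ?_, ?_, ((Commute.refl g).pow_pow n m).eq⟩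
  · rw [orderOf_pow_of_dvd hn.ne' (by rw [hg]; exact dvd_mul_left n m), hg]
    exact Nat.mul_div_cancel _ hn
  · rw [orderOf_pow_of_dvd hm.ne' (by rw [hg]; exact dvd_mul_right m n), hg]
    exact Nat.mul_div_cancel_left _ hm

theorem sc : SC 23 Spor.Co1 := by
  have := finite
  intro x hx
  exact Cfsg.Agent.H547.SelfCent.Conway.co1 (G := Spor.Co1) ⟨MulEquiv.refl _⟩ Cfsg.Agent.H393.Iso.na_co1_model hx

theorem isolated : Isolated Spor.Co1 23 := by
  have := finite
  exact isolated_of_sc (by norm_num) sc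

open Cfsg.Agent.H149.Sp in
theorem no_p5 {p q : ℕ} (hp : P5 p) (hq : P5 q) (hpq : p < q) (h57 : ¬ (p = 5 ∧ q = 7)) : ¬ HasOrd Spor.Co1 (p * q) := by
  intro h
  obtain ⟨x, y, hx, hy, hxy⟩ := HasOrd.split hp.prime.pos hq.prime.pos h
  exact co1_not_comm hp hq hpq h57 hx hy hxy

theorem no_55 : ¬ HasOrd Spor.Co1 55 :=
  no_p5 (p := 5) (q := 11) (Or.inl rfl) (Or.inr (Or.inr (Or.inl rfl))) (by norm_num) (by norm_num)

theorem no_77 : ¬ HasOrd Spor.Co1 77 :=
  no_p5 (p := 7) (q := 11) (Or.inr (Or.inl rfl)) (Or.inr (Or.inr (Or.inl rfl))) (by norm_num) (by norm_num)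

theorem no_143 : ¬ HasOrd Spor.Co1 143 :=
  no_p5 (p := 11) (q := 13) (Or.inr (Or.inr (Or.inl rfl))) (Or.inr (Or.inr (Or.inr (Or.inl rfl)))) (by norm_num)
    (by norm_num)

theorem no_of_not_dvd {n : ℕ} (h : ¬ n ∣ 4157776806543360000) : ¬ HasOrd Spor.Co1 n := by
  rintro ⟨g, rfl⟩
  exact h (card ▸ orderOf_dvd_natCard g)

theorem no_121 : ¬ HasOrd Spor.Co1 121 := no_of_not_dvd (by norm_num)

theorem no_69 : ¬ HasOrd Spor.Co1 69 := isolated_iff.1 isolated 3 (by norm_num) (by norm_num)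

theorem no_115 : ¬ HasOrd Spor.Co1 115 := isolated_iff.1 isolated 5 (by norm_num) (by norm_num)

theorem no_529 : ¬ HasOrd Spor.Co1 529 := no_of_not_dvd (by norm_num)

/-! ### The centralizer of an element of order 11 -/

theorem no_44 : ¬ HasOrd Spor.Co1 44 := by
  rintro ⟨g, hg⟩
  have := finite
  have h1 : orderOf (g ^ 4) = 11 := by
    rw [orderOf_pow_of_dvd (by norm_num) (by rw [hg]; norm_num), hg]
  have h2 := Cfsg.Agent.H546.MElevenB.card_cent_eq h1
  have h3 := orderOf_dvd_natCard (⟨g, mem_centralizer_singleton_iff.2 ((Commute.refl g).pow_right 4).eq⟩ :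
    centralizer ({g ^ 4} : Set Spor.Co1))
  rw [Subgroup.orderOf_mk, hg, h2] at h3
  norm_num at h3

theorem mem_zpowers_of {G : Type*} [Group G] {p : ℕ} (hp : p.Prime) {a b : G} (ha : orderOf a = p) (hb : orderOf b = p)
    (h : b ∈ zpowers a) : a ∈ zpowers b := by
  have hfin : Finite (zpowers a) := Nat.finite_of_card_ne_zero (by rw [Nat.card_zpowers, ha]; exact hp.ne_zero)
  have h1 : zpowers b ≤ zpowers a := by rwa [zpowers_le]
  have h2 : zpowers b = zpowers a := by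
    apply eq_of_le_of_card_ge h1
    rw [Nat.card_zpowers, Nat.card_zpowers, ha, hb]
  rw [h2]
  exact mem_zpowers a

/-- two noncommuting elements in the centralizer -/
def NC {G : Type*} [Group G] (s : G) : Prop := ∃ u v : G, Commute u s ∧ Commute v s ∧ ¬ Commute u v

theorem NC.conj {G : Type*} [Group G] {s : G} (h : NC s) (g : G) : NC (g * s * g⁻¹) := by
  obtain ⟨u, v, hu, hv, huv⟩ := h
  refine ⟨g * u * g⁻¹, g * v * g⁻¹, hu.map (MulAut.conj g), hv.map (MulAut.conj g), fun h => huv ?_⟩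
  have h1 := h.map (MulAut.conj g⁻¹)
  simpa [mul_assoc] using h1

theorem NC.of_mem {G : Type*} [Group G] {a b : G} (h : NC a) (hb : b ∈ zpowers a) : NC b := by
  obtain ⟨u, v, hu, hv, huv⟩ := h
  obtain ⟨k, rfl⟩ := mem_zpowers_iff.1 hb
  exact ⟨u, v, hu.zpow_right k, hv.zpow_right k, huv⟩

theorem orderOf_d : orderOf (mk Co1Data.d0) = 11 := by
  have hf : Fact (Nat.Prime 11) := ⟨by norm_num⟩
  refine orderOf_eq_prime ?_ ?_
  · rw [mk_pow, Co1Data.d_pow]; rfl
  · intro h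
    rcases (mk_eq_one _).1 h with h1 | h1
    · exact Co1Data.d_ne h1
    · have h2 := Co1Data.d_pow
      rw [h1, LThreeBX.NoSeven.pow_n (by decide)] at h2
      exact LThreeBX.NoSeven.n_ne h2

/-- elements of odd order `n` of `Co0` other than 1 are nontrivial in `Co1` -/
theorem mk_ne {a : Co0} {n : ℕ} (hn : Odd n) (ha : a ^ n = 1) (ha1 : a ≠ 1) : mk a ≠ 1 := by
  intro h
  rcases (mk_eq_one _).1 h with h1 | h1
  · exact ha1 h1
  · rw [h1, LThreeBX.NoSeven.pow_n hn] at ha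
    exact LThreeBX.NoSeven.n_ne ha

theorem nc_d : NC (mk Co1Data.d0) := by
  refine ⟨mk Co1Data.z0, mk Co1Data.x0, ?_, ?_, ?_⟩
  · show mk Co1Data.z0 * mk Co1Data.d0 = mk Co1Data.d0 * mk Co1Data.z0
    rw [← mk_mul, ← mk_mul, Co1Data.zd]
  · show mk Co1Data.x0 * mk Co1Data.d0 = mk Co1Data.d0 * mk Co1Data.x0
    rw [← mk_mul, ← mk_mul, Co1Data.xd]
  · intro h
    have h1 : mk Co1Data.x0 * (mk Co1Data.z0 * mk Co1Data.x0) = mk Co1Data.z0 := by
      rw [← mk_mul, ← mk_mul, Co1Data.xzx]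
    rw [h.eq] at h1
    have h2 : mk Co1Data.x0 ^ 3 = 1 := by rw [mk_pow, Co1Data.x_pow]; rfl
    have h3 : mk Co1Data.x0 * mk Co1Data.x0 = 1 := by
      rw [← mul_assoc, mul_eq_right] at h1
      exact h1
    rw [pow_succ, pow_two, h3, one_mul] at h2
    exact mk_ne (n := 3) (by decide) Co1Data.x_pow Co1Data.x_ne h2

/-- the centralizer of an element of order 11 is not abelian -/
theorem nc {s : Spor.Co1} (hs : orderOf s = 11) : NC s := by
  obtain ⟨g, hg⟩ := Cfsg.Agent.BpSpor.MBigCo.conj_eleven orderOf_d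
  obtain ⟨k, hk⟩ := Cfsg.Agent.BpSpor.MBigCo.conj_eleven hs
  have hcj : ∀ (g : Spor.Co1) {a : Spor.Co1}, orderOf a = 11 → orderOf (g * a * g⁻¹) = 11 := by
    intro g a ha
    rw [← MulAut.conj_apply, MulEquiv.orderOf_eq, ha]
  have h1 : NC Cfsg.Agent.BpSpor.MBigCo.s11 :=
    (nc_d.conj g).of_mem (mem_zpowers_of (by norm_num) Cfsg.Agent.BpSpor.MBigCo.orderOf_s11 (hcj g orderOf_d) hg)
  have h2 := (h1.of_mem hk).conj k⁻¹
  have h3 : k⁻¹ * (k * s * k⁻¹) * k⁻¹⁻¹ = s := by group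
  rwa [h3] at h2

theorem no_66 : ¬ HasOrd Spor.Co1 66 := by
  rintro ⟨g, hg⟩
  have := finite
  have h1 : orderOf (g ^ 6) = 11 := by
    rw [orderOf_pow_of_dvd (by norm_num) (by rw [hg]; norm_num), hg]
  have h2 := Cfsg.Agent.H546.MElevenB.card_cent_eq h1
  have h3 : zpowers g = centralizer ({g ^ 6} : Set Spor.Co1) := by
    apply eq_of_le_of_card_ge
    · rw [zpowers_le, mem_centralizer_singleton_iff]
      exact ((Commute.refl g).pow_right 6).eq
    · rw [h2, Nat.card_zpowers, hg]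
  obtain ⟨u, v, hu, hv, huv⟩ := nc h1
  have h4 : u ∈ zpowers g := by rw [h3, mem_centralizer_singleton_iff]; exact hu
  have h5 : v ∈ zpowers g := by rw [h3, mem_centralizer_singleton_iff]; exact hv
  obtain ⟨i, rfl⟩ := mem_zpowers_iff.1 h4
  obtain ⟨j, rfl⟩ := mem_zpowers_iff.1 h5
  exact huv ((Commute.refl g).zpow_zpow i j)

theorem has_33 : HasOrd Spor.Co1 33 := by
  have := finite
  have hf : Fact (Nat.Prime 3) := ⟨Nat.prime_three⟩
  have ho := Cfsg.Agent.BpSpor.MBigCo.orderOf_s11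
  have h2 := Cfsg.Agent.H546.MElevenB.card_cent_eq ho
  obtain ⟨⟨x, hx⟩, hx3⟩ := exists_prime_orderOf_dvd_card' (G := centralizer ({Cfsg.Agent.BpSpor.MBigCo.s11} : Set Spor.Co1)) 3
    (by rw [h2]; norm_num)
  rw [Subgroup.orderOf_mk] at hx3
  exact hasOrd_mul (m := 3) (n := 11) (show Commute x _ from mem_centralizer_singleton_iff.1 hx) hx3 ho (by norm_num)

theorem good : Good Spor.Co1 23 where
  prime := by norm_num
  ne2 := by norm_num
  dvd := by rw [card]; norm_num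
  iso := isolated
  ex := ⟨33, by decide, by norm_num, has_33, no_66⟩

/-! ### The Frobenius groups -/

theorem mem_normalizer_of_pow {G : Type*} [Group G] {T : Subgroup G} {c : G} {n : ℕ} (hn : 0 < n) (hc : c ^ n = 1)
    (h : ∀ a ∈ T, c * a * c⁻¹ ∈ T) : c ∈ normalizer (T : Set G) := by
  have h4 : ∀ n : ℕ, ∀ a ∈ T, c ^ n * a * (c ^ n)⁻¹ ∈ T := by
    intro n
    induction n with
    | zero => intro a ha; simpa using ha
    | succ n ih =>
      intro a ha
      have h5 := ih _ (h a ha)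
      have h6 : c ^ (n + 1) * a * (c ^ (n + 1))⁻¹ = c ^ n * (c * a * c⁻¹) * (c ^ n)⁻¹ := by
        rw [pow_succ]; group
      rw [h6]
      exact h5
  obtain ⟨m, rfl⟩ := Nat.exists_eq_add_of_lt hn
  rw [mem_normalizer_iff]
  intro a
  constructor
  · exact h a
  · intro ha
    have h5 := h4 m _ ha
    have h6 : c ^ m * (c * a * c⁻¹) * (c ^ m)⁻¹ = c ^ (0 + m + 1) * a * (c ^ (0 + m + 1))⁻¹ := by
      rw [pow_succ, zero_add]; group
    rw [h6, hc, one_mul, inv_one, mul_one] at h5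
    exact h5

theorem frob_2_23 : HasFrob Spor.Co1 2 23 := by
  have := finite
  have hf2 : Fact (Nat.Prime 2) := ⟨Nat.prime_two⟩
  have hf23 : Fact (Nat.Prime 23) := ⟨by norm_num⟩
  have hx : orderOf (mk x23) = 23 := by
    refine orderOf_eq_prime ?_ (mk_ne (n := 23) (by decide) Cfsg.Agent.SporadicA.Co1Simple.x23_pow
      Cfsg.Agent.SporadicA.Co1Simple.x23_ne_one)
    rw [mk_pow, Cfsg.Agent.SporadicA.Co1Simple.x23_pow]; rfl
  obtain ⟨k, hk, -⟩ := Cfsg.Agent.H393.Iso.card_E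
  refine ⟨Co1.E, mk x23, IsPGroup.of_card hk, ?_, ?_, hx, ?_⟩
  · intro h
    have h1 := Co1.sign_mem Cfsg.Agent.H546.MElevenB.c0
    rw [h, mem_bot] at h1
    exact Cfsg.Agent.H546.MElevenB.c0_ne h1
  · refine mem_normalizer_of_pow (n := 23) (by norm_num) (by rw [← hx, pow_orderOf_eq_one]) ?_
    rintro _ ⟨c, rfl⟩
    have h1 := Co1.conj_sign 0 c shift
    rw [signCo0_zero, one_mul] at h1
    rw [show x23 = permCo0 shift from rfl, h1]
    exact Co1.sign_mem _
  · rintro j hj0 hj a ⟨c, rfl⟩ h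
    by_contra h1
    have ho : orderOf (mk (signCo0 c)) = 2 := by
      refine orderOf_eq_prime ?_ h1
      have h2 : (mk (signCo0 c)) ^ 2 = mk (signCo0 c * signCo0 c) := by rw [pow_two]; rfl
      rw [h2, signCo0_mul_self]
      rfl
    have hxj : orderOf (mk x23 ^ j) = 23 := by
      rw [(Nat.Coprime.orderOf_pow (by
        rw [hx]
        exact (Nat.Prime.coprime_iff_not_dvd (by norm_num)).2 fun h => by
          have := Nat.le_of_dvd hj0 h
          omega)), hx]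
    exact Cfsg.Agent.H393.Iso.na_co1_model _ _ hxj ho h.symm

theorem frob_3_22 : HasFrob Spor.Co1 3 22 := by
  refine frob22 (d := mk Co1Data.d0) (z := mk Co1Data.z0) (t := mk Co1Data.t0) ?_ ?_ ?_ ?_ ?_ ?_ ?_ ?_ ?_
  · rw [mk_pow, Co1Data.d_pow]; rfl
  · exact mk_ne (n := 11) (by decide) Co1Data.d_pow Co1Data.d_ne
  · rw [← mk_mul, Co1Data.z_sq]; rfl
  · rw [← mk_mul, ← mk_mul, Co1Data.zd]
  · rw [mk_pow, Co1Data.t_pow]; rfl
  · exact mk_ne (n := 3) (by decide) Co1Data.t_pow Co1Data.t_ne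
  · rw [← mk_mul, ← mk_mul, Co1Data.tzt]
  · intro k hk
    exact (Co1Data.comm hk).map (QuotientGroup.mk' (Subgroup.center Co0))
  · rw [← mk_mul, mk_pow, Co1Data.td_pow]; rfl

end Cfsg.Agent.H823.Rec.Co1Facts
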