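import Cfsg.Agent.LThreeCo1.Ev
import Cfsg.Agent.LThreeBX.NoSeven

/-!
# Explicit elements of `Co0` for `3^5:22` in `Co1` (S3484, helper823)

`d` : the permutation `i ↦ 2 i` of order 11; `z` : the sign change on the invariant dodecad; `x` of order 3 commuting
with `d` and inverted by `z`; `t` of order 3 in the normal subgroup `3^5` of the pointwise stabilizer of a triangle of
type 333 fixed by `d`: `t` commutes with its conjugates under `d`, `(t d) ^ 11 = 1`, `z` inverts `t`.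
The lists are generated by a script and checked by the kernel.
-/

set_option autoImplicit false
set_option maxRecDepth 100000

namespace Cfsg.Agent.H823.Rec.Co1Data

open Cfsg Cfsg.Agent.SporadicA Cfsg.Agent.SporadicStructure.Co0Matrix Cfsg.Agent.CoOneType.CoEval
open Cfsg.Agent.LThreeCo1.Ev

/-- rows of `d` (times 8) -/
def rD : List (List ℤ) := [
  [8, 0, 0, 0, 0, 0, 0, 0, 0, 0, 0, 0, 0, 0, 0, 0, 0, 0, 0, 0, 0, 0, 0, 0],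
  [0, 0, 0, 0, 0, 0, 0, 0, 0, 0, 0, 0, 8, 0, 0, 0, 0, 0, 0, 0, 0, 0, 0, 0],
  [0, 8, 0, 0, 0, 0, 0, 0, 0, 0, 0, 0, 0, 0, 0, 0, 0, 0, 0, 0, 0, 0, 0, 0],
  [0, 0, 0, 0, 0, 0, 0, 0, 0, 0, 0, 0, 0, 8, 0, 0, 0, 0, 0, 0, 0, 0, 0, 0],
  [0, 0, 8, 0, 0, 0, 0, 0, 0, 0, 0, 0, 0, 0, 0, 0, 0, 0, 0, 0, 0, 0, 0, 0],
  [0, 0, 0, 0, 0, 0, 0, 0, 0, 0, 0, 0, 0, 0, 8, 0, 0, 0, 0, 0, 0, 0, 0, 0],
  [0, 0, 0, 8, 0, 0, 0, 0, 0, 0, 0, 0, 0, 0, 0, 0, 0, 0, 0, 0, 0, 0, 0, 0],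
  [0, 0, 0, 0, 0, 0, 0, 0, 0, 0, 0, 0, 0, 0, 0, 8, 0, 0, 0, 0, 0, 0, 0, 0],
  [0, 0, 0, 0, 8, 0, 0, 0, 0, 0, 0, 0, 0, 0, 0, 0, 0, 0, 0, 0, 0, 0, 0, 0],
  [0, 0, 0, 0, 0, 0, 0, 0, 0, 0, 0, 0, 0, 0, 0, 0, 8, 0, 0, 0, 0, 0, 0, 0],
  [0, 0, 0, 0, 0, 8, 0, 0, 0, 0, 0, 0, 0, 0, 0, 0, 0, 0, 0, 0, 0, 0, 0, 0],
  [0, 0, 0, 0, 0, 0, 0, 0, 0, 0, 0, 0, 0, 0, 0, 0, 0, 8, 0, 0, 0, 0, 0, 0],
  [0, 0, 0, 0, 0, 0, 8, 0, 0, 0, 0, 0, 0, 0, 0, 0, 0, 0, 0, 0, 0, 0, 0, 0],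
  [0, 0, 0, 0, 0, 0, 0, 0, 0, 0, 0, 0, 0, 0, 0, 0, 0, 0, 8, 0, 0, 0, 0, 0],
  [0, 0, 0, 0, 0, 0, 0, 8, 0, 0, 0, 0, 0, 0, 0, 0, 0, 0, 0, 0, 0, 0, 0, 0],
  [0, 0, 0, 0, 0, 0, 0, 0, 0, 0, 0, 0, 0, 0, 0, 0, 0, 0, 0, 8, 0, 0, 0, 0],
  [0, 0, 0, 0, 0, 0, 0, 0, 8, 0, 0, 0, 0, 0, 0, 0, 0, 0, 0, 0, 0, 0, 0, 0],
  [0, 0, 0, 0, 0, 0, 0, 0, 0, 0, 0, 0, 0, 0, 0, 0, 0, 0, 0, 0, 8, 0, 0, 0],
  [0, 0, 0, 0, 0, 0, 0, 0, 0, 8, 0, 0, 0, 0, 0, 0, 0, 0, 0, 0, 0, 0, 0, 0],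
  [0, 0, 0, 0, 0, 0, 0, 0, 0, 0, 0, 0, 0, 0, 0, 0, 0, 0, 0, 0, 0, 8, 0, 0],
  [0, 0, 0, 0, 0, 0, 0, 0, 0, 0, 8, 0, 0, 0, 0, 0, 0, 0, 0, 0, 0, 0, 0, 0],
  [0, 0, 0, 0, 0, 0, 0, 0, 0, 0, 0, 0, 0, 0, 0, 0, 0, 0, 0, 0, 0, 0, 8, 0],
  [0, 0, 0, 0, 0, 0, 0, 0, 0, 0, 0, 8, 0, 0, 0, 0, 0, 0, 0, 0, 0, 0, 0, 0],
  [0, 0, 0, 0, 0, 0, 0, 0, 0, 0, 0, 0, 0, 0, 0, 0, 0, 0, 0, 0, 0, 0, 0, 8]]

/-- rows of `z` (times 8) -/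
def rZ : List (List ℤ) := [
  [-8, 0, 0, 0, 0, 0, 0, 0, 0, 0, 0, 0, 0, 0, 0, 0, 0, 0, 0, 0, 0, 0, 0, 0],
  [0, -8, 0, 0, 0, 0, 0, 0, 0, 0, 0, 0, 0, 0, 0, 0, 0, 0, 0, 0, 0, 0, 0, 0],
  [0, 0, -8, 0, 0, 0, 0, 0, 0, 0, 0, 0, 0, 0, 0, 0, 0, 0, 0, 0, 0, 0, 0, 0],
  [0, 0, 0, -8, 0, 0, 0, 0, 0, 0, 0, 0, 0, 0, 0, 0, 0, 0, 0, 0, 0, 0, 0, 0],
  [0, 0, 0, 0, -8, 0, 0, 0, 0, 0, 0, 0, 0, 0, 0, 0, 0, 0, 0, 0, 0, 0, 0, 0],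
  [0, 0, 0, 0, 0, 8, 0, 0, 0, 0, 0, 0, 0, 0, 0, 0, 0, 0, 0, 0, 0, 0, 0, 0],
  [0, 0, 0, 0, 0, 0, -8, 0, 0, 0, 0, 0, 0, 0, 0, 0, 0, 0, 0, 0, 0, 0, 0, 0],
  [0, 0, 0, 0, 0, 0, 0, 8, 0, 0, 0, 0, 0, 0, 0, 0, 0, 0, 0, 0, 0, 0, 0, 0],
  [0, 0, 0, 0, 0, 0, 0, 0, -8, 0, 0, 0, 0, 0, 0, 0, 0, 0, 0, 0, 0, 0, 0, 0],
  [0, 0, 0, 0, 0, 0, 0, 0, 0, -8, 0, 0, 0, 0, 0, 0, 0, 0, 0, 0, 0, 0, 0, 0],
  [0, 0, 0, 0, 0, 0, 0, 0, 0, 0, 8, 0, 0, 0, 0, 0, 0, 0, 0, 0, 0, 0, 0, 0],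
  [0, 0, 0, 0, 0, 0, 0, 0, 0, 0, 0, 8, 0, 0, 0, 0, 0, 0, 0, 0, 0, 0, 0, 0],
  [0, 0, 0, 0, 0, 0, 0, 0, 0, 0, 0, 0, -8, 0, 0, 0, 0, 0, 0, 0, 0, 0, 0, 0],
  [0, 0, 0, 0, 0, 0, 0, 0, 0, 0, 0, 0, 0, -8, 0, 0, 0, 0, 0, 0, 0, 0, 0, 0],
  [0, 0, 0, 0, 0, 0, 0, 0, 0, 0, 0, 0, 0, 0, 8, 0, 0, 0, 0, 0, 0, 0, 0, 0],
  [0, 0, 0, 0, 0, 0, 0, 0, 0, 0, 0, 0, 0, 0, 0, 8, 0, 0, 0, 0, 0, 0, 0, 0],
  [0, 0, 0, 0, 0, 0, 0, 0, 0, 0, 0, 0, 0, 0, 0, 0, -8, 0, 0, 0, 0, 0, 0, 0],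
  [0, 0, 0, 0, 0, 0, 0, 0, 0, 0, 0, 0, 0, 0, 0, 0, 0, 8, 0, 0, 0, 0, 0, 0],
  [0, 0, 0, 0, 0, 0, 0, 0, 0, 0, 0, 0, 0, 0, 0, 0, 0, 0, -8, 0, 0, 0, 0, 0],
  [0, 0, 0, 0, 0, 0, 0, 0, 0, 0, 0, 0, 0, 0, 0, 0, 0, 0, 0, 8, 0, 0, 0, 0],
  [0, 0, 0, 0, 0, 0, 0, 0, 0, 0, 0, 0, 0, 0, 0, 0, 0, 0, 0, 0, 8, 0, 0, 0],
  [0, 0, 0, 0, 0, 0, 0, 0, 0, 0, 0, 0, 0, 0, 0, 0, 0, 0, 0, 0, 0, 8, 0, 0],
  [0, 0, 0, 0, 0, 0, 0, 0, 0, 0, 0, 0, 0, 0, 0, 0, 0, 0, 0, 0, 0, 0, 8, 0],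
  [0, 0, 0, 0, 0, 0, 0, 0, 0, 0, 0, 0, 0, 0, 0, 0, 0, 0, 0, 0, 0, 0, 0, 8]]

/-- rows of `x` (times 8) -/
def rX : List (List ℤ) := [
  [-4, 0, 0, 0, 0, -2, 0, -2, 0, 0, -2, -2, 0, 0, -2, -2, 0, -2, 0, -2, -2, -2, -2, 2],
  [0, -4, 0, 0, 0, -2, 0, 2, 0, 0, 2, 2, 0, 0, -2, -2, 0, 2, 0, -2, -2, -2, 2, -2],
  [0, 0, -4, 0, 0, -2, 0, -2, 0, 0, -2, 2, 0, 0, 2, -2, 0, -2, 0, -2, 2, 2, 2, -2],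
  [0, 0, 0, -4, 0, 2, 0, 2, 0, 0, 2, -2, 0, 0, -2, -2, 0, -2, 0, -2, 2, 2, -2, -2],
  [0, 0, 0, 0, -4, 2, 0, -2, 0, 0, -2, -2, 0, 0, -2, -2, 0, 2, 0, 2, -2, 2, 2, -2],
  [2, 2, 2, -2, -2, -4, 2, 0, 2, 2, 0, 0, -2, -2, 0, 0, 2, 0, -2, 0, 0, 0, 0, 0],
  [0, 0, 0, 0, 0, -2, -4, -2, 0, 0, 2, -2, 0, 0, 2, -2, 0, 2, 0, 2, 2, -2, -2, -2],
  [2, -2, 2, -2, 2, 0, 2, -4, 2, -2, 0, 0, 2, 2, 0, 0, -2, 0, -2, 0, 0, 0, 0, 0],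
  [0, 0, 0, 0, 0, -2, 0, -2, -4, 0, 2, 2, 0, 0, -2, 2, 0, -2, 0, 2, -2, 2, -2, -2],
  [0, 0, 0, 0, 0, -2, 0, 2, 0, -4, -2, -2, 0, 0, 2, 2, 0, 2, 0, -2, -2, 2, -2, -2],
  [2, -2, 2, -2, 2, 0, -2, 0, -2, 2, -4, 0, 2, -2, 0, 0, 2, 0, 2, 0, 0, 0, 0, 0],
  [2, -2, -2, 2, 2, 0, 2, 0, -2, 2, 0, -4, -2, 2, 0, 0, 2, 0, -2, 0, 0, 0, 0, 0],
  [0, 0, 0, 0, 0, 2, 0, -2, 0, 0, -2, 2, -4, 0, -2, 2, 0, 2, 0, -2, 2, -2, -2, -2],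
  [0, 0, 0, 0, 0, 2, 0, -2, 0, 0, 2, -2, 0, -4, 2, 2, 0, -2, 0, -2, -2, -2, 2, -2],
  [2, 2, -2, 2, 2, 0, -2, 0, 2, -2, 0, 0, 2, -2, -4, 0, 2, 0, -2, 0, 0, 0, 0, 0],
  [2, 2, 2, 2, 2, 0, 2, 0, -2, -2, 0, 0, -2, -2, 0, -4, -2, 0, 2, 0, 0, 0, 0, 0],
  [0, 0, 0, 0, 0, -2, 0, 2, 0, 0, -2, -2, 0, 0, -2, 2, -4, -2, 0, 2, 2, -2, 2, -2],
  [2, -2, 2, 2, -2, 0, -2, 0, 2, -2, 0, 0, -2, 2, 0, 0, 2, -4, 2, 0, 0, 0, 0, 0],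
  [0, 0, 0, 0, 0, 2, 0, 2, 0, 0, -2, 2, 0, 0, 2, -2, 0, -2, -4, 2, -2, -2, -2, -2],
  [2, 2, 2, 2, -2, 0, -2, 0, -2, 2, 0, 0, 2, 2, 0, 0, -2, 0, -2, -4, 0, 0, 0, 0],
  [2, 2, -2, -2, 2, 0, -2, 0, 2, 2, 0, 0, -2, 2, 0, 0, -2, 0, 2, 0, -4, 0, 0, 0],
  [2, 2, -2, -2, -2, 0, 2, 0, -2, -2, 0, 0, 2, 2, 0, 0, 2, 0, 2, 0, 0, -4, 0, 0],
  [2, -2, -2, 2, -2, 0, 2, 0, 2, 2, 0, 0, 2, -2, 0, 0, -2, 0, 2, 0, 0, 0, -4, 0],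
  [-2, 2, 2, 2, 2, 0, 2, 0, 2, 2, 0, 0, 2, 2, 0, 0, 2, 0, 2, 0, 0, 0, 0, -4]]

/-- rows of `t` (times 8) -/
def rT : List (List ℤ) := [
  [2, 2, 2, -2, 2, 2, 2, 2, 0, -2, -2, 0, 2, -2, 2, -2, 2, 0, 0, 0, 0, -2, 0, 0],
  [2, 2, 2, -2, 2, -2, -2, 2, 0, 2, -2, 0, 2, 2, -2, 2, -2, 0, 0, 0, 0, 2, 0, 0],
  [2, 2, 2, 2, -2, -2, -2, -2, 0, -2, 2, 0, 2, 2, 2, 2, 2, 0, 0, 0, 0, -2, 0, 0],
  [-2, -2, 2, 2, -2, 2, 2, 2, 0, 2, -2, 0, 2, 2, -2, 2, 2, 0, 0, 0, 0, -2, 0, 0],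
  [2, 2, -2, -2, 2, 2, 2, -2, 0, 2, 2, 0, -2, 2, -2, 2, 2, 0, 0, 0, 0, -2, 0, 0],
  [-2, 2, 2, -2, -2, -2, 2, 2, 0, 2, 2, 0, -2, -2, 2, 2, 2, 0, 0, 0, 0, 2, 0, 0],
  [2, -2, -2, 2, 2, -2, 2, -2, 0, 2, -2, 0, 2, -2, 2, 2, 2, 0, 0, 0, 0, 2, 0, 0],
  [-2, -2, 2, -2, 2, 2, 2, -2, 0, -2, 2, 0, 2, 2, 2, 2, -2, 0, 0, 0, 0, 2, 0, 0],
  [0, 0, 0, 0, 0, 0, 0, 0, 2, 0, 0, 2, 0, 0, 0, 0, 0, 2, 6, 2, 2, 0, 2, -2],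
  [-2, 2, -2, 2, 2, -2, 2, 2, 0, 2, 2, 0, 2, 2, 2, -2, -2, 0, 0, 0, 0, -2, 0, 0],
  [2, 2, -2, 2, -2, 2, 2, 2, 0, -2, -2, 0, -2, 2, 2, 2, -2, 0, 0, 0, 0, 2, 0, 0],
  [0, 0, 0, 0, 0, 0, 0, 0, -2, 0, 0, 6, 0, 0, 0, 0, 0, -2, 2, -2, -2, 0, -2, 2],
  [2, 2, 2, 2, -2, 2, 2, -2, 0, 2, 2, 0, 2, -2, -2, -2, -2, 0, 0, 0, 0, 2, 0, 0],
  [-2, 2, 2, 2, 2, 2, -2, -2, 0, 2, -2, 0, -2, 2, 2, -2, 2, 0, 0, 0, 0, 2, 0, 0],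
  [-2, 2, -2, 2, 2, 2, -2, 2, 0, -2, 2, 0, 2, -2, -2, 2, 2, 0, 0, 0, 0, 2, 0, 0],
  [2, -2, -2, -2, -2, 2, -2, 2, 0, 2, 2, 0, 2, 2, 2, -2, 2, 0, 0, 0, 0, 2, 0, 0],
  [2, -2, 2, 2, 2, -2, 2, 2, 0, -2, 2, 0, -2, 2, -2, -2, 2, 0, 0, 0, 0, 2, 0, 0],
  [0, 0, 0, 0, 0, 0, 0, 0, -2, 0, 0, -2, 0, 0, 0, 0, 0, 6, 2, -2, -2, 0, -2, 2],
  [0, 0, 0, 0, 0, 0, 0, 0, 6, 0, 0, -2, 0, 0, 0, 0, 0, -2, 2, -2, -2, 0, -2, 2],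
  [0, 0, 0, 0, 0, 0, 0, 0, -2, 0, 0, -2, 0, 0, 0, 0, 0, -2, 2, 6, -2, 0, -2, 2],
  [0, 0, 0, 0, 0, 0, 0, 0, -2, 0, 0, -2, 0, 0, 0, 0, 0, -2, 2, -2, 6, 0, -2, 2],
  [2, -2, 2, 2, 2, 2, -2, 2, 0, 2, 2, 0, -2, -2, 2, 2, -2, 0, 0, 0, 0, -2, 0, 0],
  [0, 0, 0, 0, 0, 0, 0, 0, -2, 0, 0, -2, 0, 0, 0, 0, 0, -2, 2, -2, -2, 0, 6, 2],
  [0, 0, 0, 0, 0, 0, 0, 0, 2, 0, 0, 2, 0, 0, 0, 0, 0, 2, -2, 2, 2, 0, 2, 6]]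

theorem okD : Ok rD (tr rD) := Cfsg.Agent.CoOneType.CoFast.ok_of_okZ (by decide +kernel)

theorem okZ : Ok rZ (tr rZ) := Cfsg.Agent.CoOneType.CoFast.ok_of_okZ (by decide +kernel)

theorem okX : Ok rX (tr rX) := Cfsg.Agent.CoOneType.CoFast.ok_of_okZ (by decide +kernel)

theorem okT : Ok rT (tr rT) := Cfsg.Agent.CoOneType.CoFast.ok_of_okZ (by decide +kernel)

/-- the matrices: `d z x t d⁻¹` -/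
def M : ℕ → List (List ℤ)
  | 0 => rD
  | 1 => rZ
  | 2 => rX
  | 3 => rT
  | _ => tr rD

/-- the elements -/
noncomputable def e : ℕ → Co0
  | 0 => mk okD
  | 1 => mk okZ
  | 2 => mk okX
  | 3 => mk okT
  | _ => (mk okD)⁻¹

theorem rep : ∀ i, Rep (e i) (M i)
  | 0 => rep_mk okD
  | 1 => rep_mk okZ
  | 2 => rep_mk okX
  | 3 => rep_mk okT
  | _ + 4 => rep_inv okD

/-- the element of order 11 -/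
noncomputable abbrev d0 : Co0 := e 0
/-- the involution -/
noncomputable abbrev z0 : Co0 := e 1
/-- the element of order 3 commuting with `d0` -/
noncomputable abbrev x0 : Co0 := e 2
/-- the element of order 3 -/
noncomputable abbrev t0 : Co0 := e 3

theorem e4 : e 4 = d0⁻¹ := rfl

/-- Equality of words in `Co0`. -/
theorem word_eq {w w' : List ℕ} (h : eqB M w w' = true) : (w.map e).prod = (w'.map e).prod := eq_of_eqB rep h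

theorem word_ne {w w' : List ℕ} (h : neB' M w w' = true) : (w.map e).prod ≠ (w'.map e).prod := ne_of_neB' rep h

theorem d_pow : d0 ^ 11 = 1 := by
  have h := word_eq (w := List.replicate 11 0) (w' := []) (by decide +kernel)
  rwa [List.map_replicate, List.prod_replicate, List.map_nil, List.prod_nil] at h

theorem d_ne : d0 ≠ 1 := by
  have h := word_ne (w := [0]) (w' := []) (by decide +kernel)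
  simpa only [List.map_cons, List.map_nil, List.prod_cons, List.prod_nil, mul_one] using h

theorem z_sq : z0 * z0 = 1 := by
  have h := word_eq (w := [1, 1]) (w' := []) (by decide +kernel)
  simpa only [List.map_cons, List.map_nil, List.prod_cons, List.prod_nil, mul_one] using h

theorem zd : z0 * d0 = d0 * z0 := by
  have h := word_eq (w := [1, 0]) (w' := [0, 1]) (by decide +kernel)
  simpa only [List.map_cons, List.map_nil, List.prod_cons, List.prod_nil, mul_one] using h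

theorem x_pow : x0 ^ 3 = 1 := by
  have h := word_eq (w := List.replicate 3 2) (w' := []) (by decide +kernel)
  rwa [List.map_replicate, List.prod_replicate, List.map_nil, List.prod_nil] at h

theorem x_ne : x0 ≠ 1 := by
  have h := word_ne (w := [2]) (w' := []) (by decide +kernel)
  simpa only [List.map_cons, List.map_nil, List.prod_cons, List.prod_nil, mul_one] using h

theorem xd : x0 * d0 = d0 * x0 := by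
  have h := word_eq (w := [2, 0]) (w' := [0, 2]) (by decide +kernel)
  simpa only [List.map_cons, List.map_nil, List.prod_cons, List.prod_nil, mul_one] using h

/-- `z` inverts `x` -/
theorem xzx : x0 * (z0 * x0) = z0 := by
  have h := word_eq (w := [2, 1, 2]) (w' := [1]) (by decide +kernel)
  simpa only [List.map_cons, List.map_nil, List.prod_cons, List.prod_nil, mul_one] using h

theorem t_pow : t0 ^ 3 = 1 := by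
  have h := word_eq (w := List.replicate 3 3) (w' := []) (by decide +kernel)
  rwa [List.map_replicate, List.prod_replicate, List.map_nil, List.prod_nil] at h

theorem t_ne : t0 ≠ 1 := by
  have h := word_ne (w := [3]) (w' := []) (by decide +kernel)
  simpa only [List.map_cons, List.map_nil, List.prod_cons, List.prod_nil, mul_one] using h

/-- `z` inverts `t` -/
theorem tzt : t0 * (z0 * t0) = z0 := by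
  have h := word_eq (w := [3, 1, 3]) (w' := [1]) (by decide +kernel)
  simpa only [List.map_cons, List.map_nil, List.prod_cons, List.prod_nil, mul_one] using h

/-- the norm of `t` is trivial -/
theorem td_pow : (t0 * d0) ^ 11 = 1 := by
  have h := word_eq (w := (List.replicate 11 [3, 0]).flatten) (w' := []) (by decide +kernel)
  have h2 : ∀ n : ℕ, (((List.replicate n [3, 0]).flatten).map e).prod = (t0 * d0) ^ n := by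
    intro n
    induction n with
    | zero => rfl
    | succ n ih =>
      rw [List.replicate_succ, List.flatten_cons, List.map_append, List.prod_append, ih, pow_succ']
      simp only [List.map_cons, List.map_nil, List.prod_cons, List.prod_nil, mul_one]
  rw [h2] at h
  simpa using h

/-- the words `t d ^ k t d ^ -k` -/
theorem comm_check : ∀ k ∈ List.range 11, eqB M ([3] ++ List.replicate k 0 ++ [3] ++ List.replicate k 4)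
    (List.replicate k 0 ++ [3] ++ List.replicate k 4 ++ [3]) = true := by
  decide +kernel

theorem comm {k : ℕ} (hk : k < 11) : Commute t0 (d0 ^ k * t0 * (d0 ^ k)⁻¹) := by
  have h := word_eq (comm_check k (List.mem_range.2 hk))
  simp only [List.map_append, List.map_replicate, List.map_cons, List.map_nil, List.prod_append, List.prod_replicate,
    List.prod_cons, List.prod_nil, mul_one, e4, inv_pow] at h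
  rw [mul_assoc (t0 * d0 ^ k), mul_assoc t0] at h
  rw [mul_assoc (d0 ^ k)]
  exact h.trans (by rw [mul_assoc (d0 ^ k)])

end Cfsg.Agent.H823.Rec.Co1Data
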